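import Groth.Agent.QcSum.Pres
import Groth.Agent.SiteCoh.WeakContr
import Groth.Agent.CohDerLib.Compact.Site
import Groth.Agent.CompactGroth.Finite
import Groth.Agent.KFlat.Hom
import Groth.Prelude.Def_CohSite
import Groth.Agent.ModAlg.FreeElem

/-!
# Free modules on quasi-compact objects and compactness
-/

set_option autoImplicit false
set_option linter.style.haveILetI false
set_option backward.isDefEq.respectTransparency.types false

universe u

open CategoryTheory CategoryTheory.Limits Opposite ModSite DerivedCategory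

namespace Groth.Agent.FreeCompact

open Groth.Agent.ModFlat (rs freeOnEquiv freeOnEquiv_comp)

variable {C : Type u} [SmallCategory C] {J : GrothendieckTopology C} (O : Sheaf J CommRingCat.{u})

/-- Sections on a quasi-compact object commute with direct sums of modules. -/
theorem preservesColimitsOfShape_coyoneda {U : C}
    (hU : CohCx.IsQcObject ((presheafToSheaf J (Type u)).obj (yoneda.obj U))) (ι : Type u) :
    PreservesColimitsOfShape (Discrete ι) (preadditiveCoyoneda.obj (op (freeOn O U))) := by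
  haveI := Groth.Agent.QcSum.preservesColimitsOfShape_sections O (Groth.Agent.QcSum.isQCSite_of_isQcObject hU) ι
  exact preservesColimitsOfShape_of_natIso (Groth.Agent.QcSum.coyonedaFreeOnIso O U).symm

open scoped Classical in
theorem hsum {U : C} (hU : CohCx.IsQcObject ((presheafToSheaf J (Type u)).obj (yoneda.obj U))) {ι : Type u}
    (Y : ι → Mod O) (c : Cofan Y) (hc : IsColimit c) :
    Function.Bijective (DirectSum.toAddMonoid fun i => Preadditive.rightComp (freeOn O U) (c.inj i) :
      (DirectSum ι fun i => freeOn O U ⟶ Y i) →+ (freeOn O U ⟶ c.pt)) := by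
  haveI := preservesColimitsOfShape_coyoneda O hU ι
  let G := preadditiveCoyoneda.obj (op (freeOn O U))
  exact Groth.Agent.CohDerLib.Compact.bijective_of_isColimit (Cofan.mk (G.obj c.pt) fun i => G.map (c.inj i))
    (isColimitCofanMkObjOfIsColimit G Y _ (hc.ofIsoColimit (Cocone.ext (Iso.refl _) (by intro j; simp; rfl))))

/-- Free modules on weakly contractible objects are projective. -/
theorem projective_freeOn {U : C} (hU : CohSite.IsWeaklyContractible J U) : Projective (freeOn O U) := by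
  refine ⟨fun {E X} f e _ => ?_⟩
  let ψ := (SheafOfModules.toSheaf (ringSh O)).map e
  haveI : Sheaf.IsLocallySurjective ψ := ⟨fun {V} s => by
    obtain ⟨S, hS, hS'⟩ := Groth.Agent.PullFlat.exists_local_lift e (U := V) s
    exact J.superset_covering (fun W g hg => hS' g hg) hS⟩
  obtain ⟨y, hy⟩ := Groth.Agent.SiteCoh.WeakContr.surjective_of_isLocallySurjective hU ψ
    (show ((SheafOfModules.toSheaf (ringSh O)).obj X).obj.obj (op U) from freeOnEquiv O U X f)
  refine ⟨(freeOnEquiv O U E).symm y, (freeOnEquiv O U X).injective ?_⟩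
  rw [freeOnEquiv_comp, Equiv.apply_symm_apply]
  exact hy

/-- Free modules on weakly contractible quasi-compact objects are compact. -/
theorem isCompactObject_freeOn [HasDerivedCategory.{u} (Mod O)] [HasCoproducts.{u} (DerivedCategory (Mod O))]
    {U : C} (hqc : CohCx.IsQcObject ((presheafToSheaf J (Type u)).obj (yoneda.obj U)))
    (hwc : CohSite.IsWeaklyContractible J U) :
    CohDer.IsCompactObject ((singleFunctor (Mod O) 0).obj (freeOn O U)) := by
  intro ι X
  haveI : Projective (freeOn O U) := projective_freeOn O hwc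
  haveI : HasExt.{u} (Mod O) := inferInstance
  haveI : HasColimitsOfSize.{u, u} (Mod O) := inferInstance
  let K : ι → CochainComplex (Mod O) ℤ := fun i =>
    (DHA.KInj.resolution (Mod O)).obj (DerivedCategory.Q.objPreimage (X i))
  let e : ∀ i, DerivedCategory.Q.obj (K i) ≅ X i := fun i =>
    (asIso (DerivedCategory.Q.map ((DHA.KInj.resolutionι (Mod O)).app
      (DerivedCategory.Q.objPreimage (X i))))).symm ≪≫ DerivedCategory.Q.objObjPreimageIso (X i)
  have hsub : ∀ (Y : Mod O) (k : ℕ), 0 < k → Subsingleton (Abelian.Ext (freeOn O U) Y k) := fun Y k hk => by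
    obtain ⟨p, rfl⟩ : ∃ p, k = p + 1 := ⟨k - 1, by omega⟩
    exact subsingleton_of_forall_eq 0 fun x => Abelian.Ext.eq_zero_of_projective x
  have hrep : ∀ K : CochainComplex (Mod O) ℤ,
      ∃ (I : CochainComplex (Mod O) ℤ) (f : K ⟶ I), I.IsKInjective ∧ QuasiIso f :=
    fun K => ⟨_, (DHA.KInj.resolutionι _).app K, inferInstance, inferInstance⟩
  obtain ⟨h1, h2⟩ := Groth.Agent.CohDerLib.Compact.Q_map_single_bijective (F := freeOn O U) (∐ K)
    (fun p => hsub _)
    ⟨(DHA.KInj.resolution _).obj (∐ K), (DHA.KInj.resolutionι _).app _, inferInstance, inferInstance,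
      fun p => inferInstance, Or.inl ⟨0, hsub⟩⟩
  exact Groth.Agent.CohDerLib.Compact.homSum_bijective (freeOn O U) (hsum O hqc) X K e h2 h1 hrep

/-- The free modules on quasi-compact objects. -/
def qcFree : Set (Mod O) :=
  {E | ∃ U : C, CohCx.IsQcObject ((presheafToSheaf J (Type u)).obj (yoneda.obj U)) ∧ E = freeOn O U}

/-- Enough quasi-compact objects give enough generators. -/
theorem exists_epi_qcFree
    (hC : ∀ V : C, ∃ R ∈ J V, ∀ ⦃W : C⦄ (g : W ⟶ V), R g →
      ∃ (U : C) (a : W ⟶ U) (b : U ⟶ V), CohCx.IsQcObject ((presheafToSheaf J (Type u)).obj (yoneda.obj U)) ∧ a ≫ b = g)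
    (X : Mod O) : ∃ (ι : Type u) (E : ι → Mod O) (π : ∐ E ⟶ X), (∀ i, E i ∈ qcFree O) ∧ Epi π := by
  let ι := Σ U : {U : C // CohCx.IsQcObject ((presheafToSheaf J (Type u)).obj (yoneda.obj U))}, sect X U.1
  let E : ι → Mod O := fun i => freeOn O i.1.1
  let π : ∐ E ⟶ X := Sigma.desc fun i => (freeOnEquiv O i.1.1 X).symm i.2
  refine ⟨ι, E, π, fun i => ⟨i.1.1, i.1.2, rfl⟩, Groth.Agent.ModAlg.epi_of_locally (R := ringSh O) _ fun T x => ?_⟩
  obtain ⟨R, hR, hR'⟩ := hC T.unop
  refine ⟨R, hR, fun W g hg => ?_⟩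
  obtain ⟨U, a, b, hU, rfl⟩ := hR' g hg
  let i : ι := ⟨⟨U, hU⟩, rs X b x⟩
  let one : sect (freeOn O U) U := freeOnEquiv O U _ (𝟙 _)
  have h1 : Groth.Agent.PullFlat.appS ((freeOnEquiv O U X).symm (rs X b x)) U one = rs X b x := by
    refine (freeOnEquiv_comp O U (𝟙 _) _).symm.trans ?_
    rw [Category.id_comp, Equiv.apply_symm_apply]
  refine ⟨rs (∐ E) a (Groth.Agent.PullFlat.appS (Sigma.ι E i) U one), ?_⟩
  show Groth.Agent.PullFlat.appS π W _ = rs X (a ≫ b) x
  rw [Groth.Agent.PullFlat.appS_res, ← Groth.Agent.PullFlat.appS_comp, Sigma.ι_desc, h1,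
    ← Groth.Agent.ModFlat.map_val_comp]

theorem exists_retract_qcFree [HasFiniteBiproducts (Mod O)] [HasDerivedCategory.{u} (Mod O)]
    [HasCoproducts.{u} (DerivedCategory (Mod O))]
    (hC : ∀ V : C, ∃ R ∈ J V, ∀ ⦃W : C⦄ (g : W ⟶ V), R g →
      ∃ (U : C) (a : W ⟶ U) (b : U ⟶ V), CohCx.IsQcObject ((presheafToSheaf J (Type u)).obj (yoneda.obj U)) ∧ a ≫ b = g)
    (K : DerivedCategory (Mod O)) (hK : CohDer.IsCompactObject K) :
    ∃ (L : CochainComplex (Mod O) ℤ) (a b : ℤ),
      (∀ i : ℤ, i < a ∨ b < i → IsZero (L.X i)) ∧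
      (∀ i : ℤ, ∃ (n : ℕ) (U : Fin n → C),
        (∀ j, CohCx.IsQcObject ((presheafToSheaf J (Type u)).obj (yoneda.obj (U j)))) ∧
        Nonempty (L.X i ≅ ⨁ fun j => freeOn O (U j))) ∧
      Nonempty (Retract K (DerivedCategory.Q.obj L)) := by
  obtain ⟨L, a, b, hL, hfin, hr⟩ := Groth.Agent.CompactGroth.exists_retract (S := qcFree O)
    (fun E hE ι => by obtain ⟨U, hU, rfl⟩ := hE; exact preservesColimitsOfShape_coyoneda O hU ι)
    (exists_epi_qcFree O hC) K hK
  refine ⟨L, a, b, hL, fun i => ?_, hr⟩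
  obtain ⟨n, E, hE, ⟨e⟩⟩ := hfin i
  choose U hU hEU using hE
  exact ⟨n, U, hU, ⟨e ≪≫ eqToIso (congrArg (fun F : Fin n → Mod O => ⨁ F) (funext hEU))⟩⟩

end Groth.Agent.FreeCompact
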