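import Groth.Agent.SiteCoh.ModuleFree
import Groth.Agent.ModShf.ToSheaf
import Groth.Agent.KFlat.Hom
import Groth.Prelude.Def_CohCx
import Mathlib.Algebra.Homology.DerivedCategory.Ext.Map
import Mathlib.Algebra.Homology.DerivedCategory.Ext.EnoughInjectives

/-!
# Ext out of free modules is cohomology of the underlying abelian sheaf
-/

set_option autoImplicit false
set_option linter.style.haveILetI false
set_option backward.isDefEq.respectTransparency.types false

universe u

open CategoryTheory CategoryTheory.Limits Opposite ModSite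
open CategoryTheory.Abelian

namespace Groth.Agent.FreeCompact

open Groth.Agent.SiteCoh (ModuleFree.freeMod ModuleFree.freeUnit ModuleFree.homFree_bijective)

variable {C : Type u} [SmallCategory C] {J : GrothendieckTopology C} (O : Sheaf J CommRingCat.{u})

instance toSheaf_preservesFiniteColimits : PreservesFiniteColimits (SheafOfModules.toSheaf.{u} (ringSh O)) :=
  ⟨fun K _ _ => Groth.Agent.ModShf.toSheafPreservesColimitsOfShape (ringSh O) K⟩

variable [HasExt.{u} (Mod O)] (P : Cᵒᵖ ⥤ Type u)

/-- The comparison of Ext out of a free module with cohomology. -/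
noncomputable def cmp (F : Mod O) (p : ℕ) :
    Ext ((ModuleFree.freeMod (ringSh O)).obj P) F p →+
      Ext ((SiteCoh.Free.freePre J).obj P) ((SheafOfModules.toSheaf (ringSh O)).obj F) p where
  toFun x := (Ext.mk₀ (ModuleFree.freeUnit (ringSh O) P)).comp
    (x.mapExactFunctor (SheafOfModules.toSheaf (ringSh O))) (zero_add p)
  map_zero' := by rw [Ext.mapExactFunctor_zero, Ext.comp_zero]
  map_add' x y := by rw [Ext.mapExactFunctor_add, Ext.comp_add]

theorem cmp_comp {F G : Mod O} {a b c : ℕ} (h : a + b = c) (x : Ext ((ModuleFree.freeMod (ringSh O)).obj P) F a)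
    (y : Ext F G b) :
    cmp O P G c (x.comp y h) = (cmp O P F a x).comp (y.mapExactFunctor (SheafOfModules.toSheaf (ringSh O))) h := by
  show (Ext.mk₀ _).comp ((x.comp y h).mapExactFunctor (SheafOfModules.toSheaf (ringSh O))) (zero_add c) = _
  rw [Ext.mapExactFunctor_comp]
  exact (Ext.comp_assoc _ _ _ (zero_add a) h (by omega)).symm

theorem cmp_bijective (hP : Presheaf.IsSheaf J P) : ∀ (p : ℕ) (F : Mod O), Function.Bijective (cmp O P F p) := by
  intro p
  induction p with
  | zero =>
    intro F
    have h : ∀ a, cmp O P F 0 (Ext.mk₀ a) = Ext.mk₀ (SiteCoh.ModuleFree.homFree (ringSh O) F P a) := fun a => by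
      show (Ext.mk₀ _).comp ((Ext.mk₀ a).mapExactFunctor (SheafOfModules.toSheaf (ringSh O))) (zero_add 0) = _
      rw [Ext.mapExactFunctor_mk₀, Ext.mk₀_comp_mk₀]
      rfl
    have hb := (Ext.mk₀_bijective _ _).comp (ModuleFree.homFree_bijective (ringSh O) F P)
    refine (Function.Bijective.of_comp_iff _ (Ext.mk₀_bijective _ F)).1 ?_
    exact (funext fun a => h a : cmp O P F 0 ∘ Ext.mk₀ = _) ▸ hb
  | succ p ih =>
    intro F
    let T := SheafOfModules.toSheaf (ringSh O)
    let I := Injective.under F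
    let S := ShortComplex.mk (Injective.ι F) (cokernel.π (Injective.ι F)) (cokernel.condition _)
    have hS : S.ShortExact :=
      { exact := ShortComplex.exact_of_g_is_cokernel S (cokernelIsCokernel (Injective.ι F)) }
    have hS' := hS.map_of_exact T
    have hI : ∀ x : Ext ((SiteCoh.Free.freePre J).obj P) (T.obj I) (p + 1), x = 0 := fun x =>
      (SiteCoh.ModuleFree.isTotallyAcyclic_toSheaf (ringSh O) I ⟨P, hP⟩ p).elim x 0
    have hδ : ∀ x, cmp O P F (p + 1) (x.comp hS.extClass rfl) = (cmp O P S.X₃ p x).comp hS'.extClass rfl := fun x => by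
      rw [cmp_comp, Ext.mapExactFunctor_extClass]
      rfl
    refine ⟨(injective_iff_map_eq_zero _).2 fun x hx => ?_, fun y => ?_⟩
    · obtain ⟨z, rfl⟩ := Ext.covariant_sequence_exact₁ _ hS x (Ext.eq_zero_of_injective (I := I) _) rfl
      rw [hδ] at hx
      obtain ⟨w, hw⟩ := Ext.covariant_sequence_exact₃ _ hS' _ rfl hx
      obtain ⟨w', rfl⟩ := (ih I).2 w
      have hz : z = w'.comp (Ext.mk₀ S.g) (add_zero p) := (ih S.X₃).1 (by
        rw [cmp_comp, Ext.mapExactFunctor_mk₀]
        exact hw.symm)
      rw [hz, Ext.comp_assoc _ _ _ (add_zero p) (zero_add 1) rfl, hS.comp_extClass, Ext.comp_zero]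
    · obtain ⟨z, rfl⟩ := Ext.covariant_sequence_exact₁ _ hS' y (hI _) rfl
      obtain ⟨z', rfl⟩ := (ih S.X₃).2 z
      exact ⟨_, hδ z'⟩

/-- Ext out of the free module on a sheaf of sets. -/
theorem nonempty_ext_freeMod_iso (K : Sheaf J (Type u)) (F : Mod O) (p : ℕ) :
    Nonempty (Ext ((ModuleFree.freeMod (ringSh O)).obj K.obj) F p ≃+
      CohCx.HK K ((SheafOfModules.toSheaf (ringSh O)).obj F) p) :=
  ⟨AddEquiv.ofBijective (cmp O K.obj F p) (cmp_bijective O K.obj K.property p F)⟩

end Groth.Agent.FreeCompact
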