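import Groth.Agent.FreeCompact.Basic
import Groth.Agent.FreeCompact.ExtCompare
import Groth.Agent.SiteCoh.CovColim
import Groth.Agent.EtShriekLib.Coproducts
import Mathlib.Algebra.Homology.DerivedCategory.TStructure

/-!
# Free modules on members of a collection with finite coverings and uniformly bounded below sums
-/

set_option autoImplicit false
set_option linter.style.haveILetI false
set_option backward.isDefEq.respectTransparency.types false

universe u

open CategoryTheory CategoryTheory.Limits Opposite ModSite DerivedCategory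
open CategoryTheory.Abelian

namespace Groth.Agent.FreeCompact

open Groth.Agent.SiteCoh (ModuleFree.freeMod)
open Groth.Agent.CohDerLib.Compact (Acyclic)

theorem subsingleton_precomp {A : Type*} [Category A] [Abelian A] [HasExt.{u} A] {X X' Y : A} (e : X ≅ X') {n : ℕ}
    (h : Subsingleton (Ext X' Y n)) : Subsingleton (Ext X Y n) := by
  refine subsingleton_of_forall_eq 0 fun x => ?_
  rw [← Ext.mk₀_id_comp x, ← e.hom_inv_id, ← Ext.mk₀_comp_mk₀, Ext.comp_assoc _ _ _ (zero_add 0) (zero_add n) (by omega),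
    h.elim ((Ext.mk₀ e.inv).comp x (zero_add n)) 0, Ext.comp_zero]

variable {C : Type u} [SmallCategory C] {J : GrothendieckTopology C} (O : Sheaf J CommRingCat.{u})

/-- The free module on an object is free on the associated sheaf of sets. -/
noncomputable def freeOnIso (U : C) :
    freeOn O U ≅ (ModuleFree.freeMod (ringSh O)).obj (ToposFin.eps J U).obj :=
  Groth.Agent.ModFlat.freeOnIsoFreeU O U ≪≫
    @asIso _ _ _ _ ((ModuleFree.freeMod (ringSh O)).map (toSheafify J (yoneda.obj U)))
      (SiteCoh.ModuleFree.isIso_freeMod_map_of_W (ringSh O) _ (J.W_toSheafify _))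

variable [HasPullbacks C] (B : Set C) (Cov : ∀ (U : C) (ι : Type u), (ι → Over U) → Prop)
  (h1 : ∀ (U : C) (ι : Type u) (Y : ι → Over U), Cov U ι Y → Finite ι ∧ U ∈ B ∧
    Sieve.ofArrows (fun i => (Y i).left) (fun i => (Y i).hom) ∈ J U ∧
    ∀ (p : ℕ) (a : Fin (p + 1) → ι), (∏ᶜ fun k => Y (a k)).left ∈ B)
  (h2 : ∀ U ∈ B, ∀ T ∈ J U, ∃ (ι : Type u) (Y : ι → Over U), Cov U ι Y ∧ ∀ i, T.arrows (Y i).hom)

include h1 h2 in
theorem preservesCoproducts_cohomology {U : C} (hU : U ∈ B) (p : ℕ) (ι : Type u) :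
    PreservesColimitsOfShape (Discrete ι)
      ((extFunctor (C := Sheaf J AddCommGrpCat.{u}) p).obj (op (CohCx.freeSheaf J U))) := by
  let G := (extFunctor (C := Sheaf J AddCommGrpCat.{u}) p).obj (op (CohCx.freeSheaf J U))
  haveI : G.Additive := inferInstanceAs (extFunctorObj (CohCx.freeSheaf J U) p).Additive
  haveI : PreservesFiniteBiproducts G := inferInstance
  haveI : PreservesFiniteCoproducts G := inferInstance
  haveI : PreservesFilteredColimitsOfSize.{u, u} G :=
    ⟨fun I _ _ => ⟨fun {D} => Groth.Agent.SiteCoh.CovColim.preservesColimit B Cov h1 h2 hU p D⟩⟩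
  exact Groth.Agent.EtShriekLib.preservesCoproducts_of_finite_and_filtered G ι

include h1 h2 in
theorem acyclic_coproduct [HasExt.{u} (Mod O)] {U : C} (hU : U ∈ B) {ι : Type u} (Y : ι → Mod O)
    (hY : ∀ i, Injective (Y i)) (c : Cofan Y) (hc : IsColimit c) : Acyclic (freeOn O U) c.pt := by
  intro k hk
  refine subsingleton_precomp (freeOnIso O U) ?_
  refine @Equiv.subsingleton _ _ (AddEquiv.ofBijective (cmp O (ToposFin.eps J U).obj c.pt k)
    (cmp_bijective O _ (ToposFin.eps J U).property k c.pt)).toEquiv ?_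
  refine subsingleton_precomp (Groth.Agent.SiteCoh.CovColim.freeIso J U).symm ?_
  haveI := preservesCoproducts_cohomology B Cov h1 h2 hU k ι
  let G := (extFunctor (C := Sheaf J AddCommGrpCat.{u}) k).obj (op (CohCx.freeSheaf J U))
  let T := SheafOfModules.toSheaf (ringSh O)
  have hT : IsColimit (Cofan.mk (T.obj c.pt) fun i => T.map (c.inj i)) :=
    isColimitCofanMkObjOfIsColimit T Y _ (hc.ofIsoColimit (Cocone.ext (Iso.refl _) (by intro j; simp; rfl)))
  have h' := Groth.Agent.CohDerLib.Compact.bijective_of_isColimit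
    (Cofan.mk (G.obj (T.obj c.pt)) fun i => G.map (T.map (c.inj i)))
    (isColimitCofanMkObjOfIsColimit G (fun i => T.obj (Y i)) _ hT)
  have : ∀ i, Subsingleton (G.obj (T.obj (Y i))) := fun i => by
    haveI := hY i
    obtain ⟨p, rfl⟩ : ∃ p, k = p + 1 := ⟨k - 1, by omega⟩
    exact subsingleton_precomp (Groth.Agent.SiteCoh.CovColim.freeIso J U)
      (SiteCoh.ModuleFree.isTotallyAcyclic_toSheaf (ringSh O) (Y i) _ p)
  have : Subsingleton (DirectSum ι fun i => G.obj (T.obj (Y i))) := ⟨fun a b => DFinsupp.ext fun i => Subsingleton.elim _ _⟩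
  exact h'.2.subsingleton

include h1 h2 in
open scoped Classical in
theorem hsum_collection {U : C} (hU : U ∈ B) {ι : Type u}
    (Y : ι → Mod O) (c : Cofan Y) (hc : IsColimit c) :
    Function.Bijective (DirectSum.toAddMonoid fun i => Preadditive.rightComp (freeOn O U) (c.inj i) :
      (DirectSum ι fun i => freeOn O U ⟶ Y i) →+ (freeOn O U ⟶ c.pt)) := by
  haveI := Groth.Agent.QcSum.preservesColimitsOfShape_sections O
    ((Groth.Agent.TopFin.Site.isQC_eps_iff J U).2 (Groth.Agent.SiteCoh.CovColim.isQC_eps B Cov h1 h2 hU)) ι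
  haveI := preservesColimitsOfShape_of_natIso (J := Discrete ι) (Groth.Agent.QcSum.coyonedaFreeOnIso O U).symm
  let G := preadditiveCoyoneda.obj (op (freeOn O U))
  exact Groth.Agent.CohDerLib.Compact.bijective_of_isColimit (Cofan.mk (G.obj c.pt) fun i => G.map (c.inj i))
    (isColimitCofanMkObjOfIsColimit G Y _ (hc.ofIsoColimit (Cocone.ext (Iso.refl _) (by intro j; simp; rfl))))

include h1 h2 in
/-- Uniformly bounded below families. -/
theorem homSum_bijective_of_collection [HasDerivedCategory.{u} (Mod O)] {U : C} (hU : U ∈ B) {ι : Type u}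
    (M : ι → DerivedCategory (Mod O)) [HasCoproduct M] (a : ℤ) (hM : ∀ i, (M i).IsGE a) :
    Function.Bijective (CohDer.homSumToHomCoprod ((singleFunctor (Mod O) 0).obj (freeOn O U)) M) := by
  haveI : HasExt.{u} (Mod O) := inferInstance
  haveI : HasColimitsOfSize.{u, u} (Mod O) := inferInstance
  have hI : ∀ i, ∃ (K : CochainComplex (Mod O) ℤ), K.IsStrictlyGE a ∧ (∀ n, Injective (K.X n)) ∧
      Nonempty (DerivedCategory.Q.obj K ≅ M i) := fun i => by
    haveI := hM i
    obtain ⟨L, hL, ⟨e⟩⟩ := DerivedCategory.exists_iso_Q_obj_of_isGE (M i) a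
    obtain ⟨K, r, hr, hK, hK'⟩ := CochainComplex.Plus.modelCategoryQuillen.exists_quasiIso_injective L a
    haveI : IsIso (DerivedCategory.Q.map r) := (DerivedCategory.isIso_Q_map_iff_quasiIso _ _).2 hr
    exact ⟨K, hK', hK, ⟨(asIso (DerivedCategory.Q.map r)).symm ≪≫ e.symm⟩⟩
  choose K hKge hKinj e using hI
  haveI : ∀ i, (K i).IsKInjective := fun i =>
    haveI := hKge i
    haveI := hKinj i
    CochainComplex.isKInjective_of_injective (K i) a
  have hcol : ∀ n, IsColimit (Cofan.mk ((∐ K).X n) fun i => (Sigma.ι K i).f n) := fun n =>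
    isColimitCofanMkObjOfIsColimit (HomologicalComplex.eval _ (ComplexShape.up ℤ) n) K _
      (coproductIsCoproduct K)
  have hac : ∀ n, Acyclic (freeOn O U) ((∐ K).X n) := fun n =>
    acyclic_coproduct O B Cov h1 h2 hU _ (fun i => hKinj i n) _ (hcol n)
  haveI : (∐ K).IsStrictlyGE a := by
    rw [CochainComplex.isStrictlyGE_iff]
    intro n hn
    rw [IsZero.iff_id_eq_zero]
    exact Cofan.IsColimit.hom_ext (hcol n) _ _ fun i =>
      (haveI := hKge i; ((K i).isZero_of_isStrictlyGE a n hn).eq_of_src _ _)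
  obtain ⟨I', r, hr, hI', hI''⟩ := CochainComplex.Plus.modelCategoryQuillen.exists_quasiIso_injective (∐ K) a
  obtain ⟨k1, k2⟩ := Groth.Agent.CohDerLib.Compact.Q_map_single_bijective (F := freeOn O U) (∐ K) hac
    ⟨I', r, hr, CochainComplex.isKInjective_of_injective I' a, hI', Or.inr ⟨a, inferInstance, hI''⟩⟩
  exact Groth.Agent.CohDerLib.Compact.homSum_bijective (freeOn O U) (hsum_collection O B Cov h1 h2 hU) M K
    (fun i => (e i).some) k2 k1 fun K => ⟨_, (DHA.KInj.resolutionι _).app K, inferInstance, inferInstance⟩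

end Groth.Agent.FreeCompact
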