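import Groth.Agent.FreeCompact.Basic

/-!
# Cokernels as filtered colimits of cokernels of finite pieces
-/

set_option autoImplicit false
set_option linter.style.haveILetI false
set_option backward.isDefEq.respectTransparency.types false

universe v u

open CategoryTheory CategoryTheory.Limits

attribute [local instance] Classical.propDecidable

namespace Groth.Agent.FreeCompact

section General

variable {A : Type u} [Category.{v} A] [Abelian A] [HasCoproducts.{v} A] {G R : Type v} (E : G → A) (E' : R → A)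

/-- The inclusion of finitely many summands. -/
noncomputable def inclS (S : Finset G) : (∐ fun g : S => E g) ⟶ ∐ E := Sigma.desc fun g => Sigma.ι E g

/-- The projection to finitely many summands. -/
noncomputable def projS (S : Finset G) : ∐ E ⟶ ∐ fun g : S => E g :=
  Sigma.desc fun g => if h : g ∈ S then Sigma.ι (fun g : S => E g) ⟨g, h⟩ else 0

theorem inclS_projS (S : Finset G) : inclS E S ≫ projS E S = 𝟙 _ := Sigma.hom_ext _ _ fun g => by
  rw [inclS, projS, Sigma.ι_desc_assoc, Sigma.ι_desc, dif_pos g.2, Category.comp_id]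

theorem mono_inclS (S : Finset G) : Mono (inclS E S) :=
  mono_of_mono_fac (inclS_projS E S)

/-- A map supported in finitely many summands factors through them. -/
theorem exists_finite_support {P : A} (f : P ⟶ ∐ E)
    [PreservesColimitsOfShape (Discrete G) (preadditiveCoyoneda.obj (Opposite.op P))] :
    ∃ S : Finset G, ∀ T : Finset G, S ⊆ T → f ≫ projS E T ≫ inclS E T = f := by
  obtain ⟨S, hS⟩ := Groth.Agent.CompactGroth.exists_hom_support P E f
  refine ⟨S, fun T hT => ?_⟩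
  have h := hS (Z := ∐ E) (projS E T ≫ inclS E T - 𝟙 _) fun g hg => by
    rw [Preadditive.comp_sub, Category.comp_id, projS, Sigma.ι_desc_assoc, dif_pos (hT hg), inclS, Sigma.ι_desc,
      sub_self]
  rwa [Preadditive.comp_sub, Category.comp_id, sub_eq_zero] at h

variable {E E'} (ψ : ∐ E' ⟶ ∐ E)

/-- The finite pieces. -/
def Piece : Type v :=
  {p : Finset G × Finset R //
    ∀ r ∈ p.2, Sigma.ι E' r ≫ ψ ≫ projS E p.1 ≫ inclS E p.1 = Sigma.ι E' r ≫ ψ}

instance : Preorder (Piece ψ) := Subtype.preorder _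

/-- The relations of a piece. -/
noncomputable def rel (p : Piece ψ) : (∐ fun r : p.1.2 => E' r) ⟶ ∐ fun g : p.1.1 => E g :=
  Sigma.desc fun r => Sigma.ι E' r ≫ ψ ≫ projS E p.1.1

theorem rel_incl (p : Piece ψ) (r : p.1.2) :
    Sigma.ι (fun r : p.1.2 => E' r) r ≫ rel ψ p ≫ inclS E p.1.1 = Sigma.ι E' r ≫ ψ := by
  rw [rel, Sigma.ι_desc_assoc, Category.assoc, Category.assoc]
  exact p.2 r r.2

/-- Transition of generators. -/
noncomputable def trG {S T : Finset G} (h : S ⊆ T) : (∐ fun g : S => E g) ⟶ ∐ fun g : T => E g :=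
  Sigma.desc fun g => Sigma.ι (fun g : T => E g) ⟨g, h g.2⟩

theorem trG_incl {S T : Finset G} (h : S ⊆ T) : trG (E := E) h ≫ inclS E T = inclS E S :=
  Sigma.hom_ext _ _ fun g => by
    rw [trG, Sigma.ι_desc_assoc, inclS, inclS, Sigma.ι_desc, Sigma.ι_desc]

theorem rel_trG {p q : Piece ψ} (h : p ≤ q) :
    rel ψ p ≫ trG h.1 ≫ cokernel.π (rel ψ q) = 0 := by
  refine Sigma.hom_ext _ _ fun r => ?_
  haveI := mono_inclS E q.1.1
  have e : Sigma.ι (fun r : p.1.2 => E' r) r ≫ rel ψ p ≫ trG h.1 =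
      Sigma.ι (fun r : q.1.2 => E' r) ⟨r, h.2 r.2⟩ ≫ rel ψ q := by
    rw [← cancel_mono (inclS E q.1.1), Category.assoc, Category.assoc, Category.assoc, trG_incl, rel_incl]
    exact (rel_incl ψ q ⟨r, h.2 r.2⟩).symm
  rw [comp_zero]
  have e' := congrArg (· ≫ cokernel.π (rel ψ q)) e
  simp only [Category.assoc] at e' ⊢
  rw [e', cokernel.condition, comp_zero]

/-- The diagram of pieces. -/
noncomputable def pieces : Piece ψ ⥤ A where
  obj p := cokernel (rel ψ p)
  map {p q} h := cokernel.desc _ (trG h.le.1 ≫ cokernel.π (rel ψ q)) (rel_trG ψ h.le)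
  map_id p := coequalizer.hom_ext (by
    rw [cokernel.π_desc, Category.comp_id]
    refine Sigma.hom_ext _ _ fun g => ?_
    rw [trG, Sigma.ι_desc_assoc])
  map_comp {p q r} h h' := coequalizer.hom_ext (by
    rw [cokernel.π_desc, cokernel.π_desc_assoc, Category.assoc, cokernel.π_desc]
    refine Sigma.hom_ext _ _ fun g => ?_
    simp [trG])

variable {F : A} (π : ∐ E ⟶ F) (w : ψ ≫ π = 0)

/-- The cocone of pieces. -/
noncomputable def piecesι : pieces ψ ⟶ (Functor.const _).obj F where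
  app p := cokernel.desc _ (inclS E p.1.1 ≫ π) (Sigma.hom_ext _ _ fun r => by
    rw [comp_zero, ← Category.assoc (rel ψ p), ← Category.assoc (Sigma.ι _ r), rel_incl, Category.assoc, w,
      comp_zero])
  naturality {p q} h := coequalizer.hom_ext (by
    show cokernel.π (rel ψ p) ≫ cokernel.desc _ _ _ ≫ cokernel.desc _ _ _ =
      cokernel.π (rel ψ p) ≫ cokernel.desc _ _ _ ≫ 𝟙 F
    rw [Category.comp_id, cokernel.π_desc, cokernel.π_desc_assoc, Category.assoc, cokernel.π_desc,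
      ← Category.assoc, trG_incl])

variable (hsupp : ∀ r, ∃ S : Finset G, ∀ T : Finset G, S ⊆ T →
  Sigma.ι E' r ≫ ψ ≫ projS E T ≫ inclS E T = Sigma.ι E' r ≫ ψ)

include hsupp in
theorem exists_piece (S : Finset G) (T : Finset R) : ∃ p : Piece ψ, S ⊆ p.1.1 ∧ T ⊆ p.1.2 := by
  choose Sr hSr using hsupp
  exact ⟨⟨(S ∪ T.biUnion Sr, T), fun r hr => hSr r _ ((Finset.subset_biUnion_of_mem Sr hr).trans Finset.subset_union_right)⟩,
    Finset.subset_union_left, subset_rfl⟩

include hsupp in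
theorem isFiltered_pieces : IsFiltered (Piece ψ) := by
  haveI : Nonempty (Piece ψ) := ⟨(exists_piece ψ hsupp ∅ ∅).choose⟩
  haveI : IsDirectedOrder (Piece ψ) := ⟨fun p q => by
    obtain ⟨r, h₁, h₂⟩ := exists_piece ψ hsupp (p.1.1 ∪ q.1.1) (p.1.2 ∪ q.1.2)
    exact ⟨r, ⟨Finset.subset_union_left.trans h₁, Finset.subset_union_left.trans h₂⟩,
      ⟨Finset.subset_union_right.trans h₁, Finset.subset_union_right.trans h₂⟩⟩⟩
  infer_instance

include hsupp in
/-- The cocone of pieces is a colimit. -/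
theorem nonempty_isColimit_pieces (hπ : IsColimit (CokernelCofork.ofπ π w)) :
    Nonempty (IsColimit (Cocone.mk F (piecesι ψ π w))) := by
  haveI : Epi π := Cofork.IsColimit.epi hπ
  let pg : G → Piece ψ := fun g => ⟨({g}, ∅), fun r hr => absurd hr (Finset.notMem_empty r)⟩
  let leg : ∀ (s : Cocone (pieces ψ)) g, E g ⟶ s.pt := fun s g =>
    Sigma.ι (fun x : ({g} : Finset G) => E x) ⟨g, Finset.mem_singleton_self g⟩ ≫
      cokernel.π (rel ψ (pg g)) ≫ s.ι.app (pg g)
  have hleg : ∀ (s : Cocone (pieces ψ)) (p : Piece ψ),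
      inclS E p.1.1 ≫ Sigma.desc (leg s) = cokernel.π (rel ψ p) ≫ s.ι.app p := fun s p => by
    refine Sigma.hom_ext _ _ fun g => ?_
    rw [inclS, Sigma.ι_desc_assoc, Sigma.ι_desc]
    have hle : pg g ≤ p := ⟨Finset.singleton_subset_iff.2 g.2, Finset.empty_subset _⟩
    show _ ≫ cokernel.π (rel ψ (pg g)) ≫ s.ι.app (pg g) = _
    rw [← s.w (homOfLE hle)]
    simp [pieces, trG, pg]
  have hψ : ∀ s : Cocone (pieces ψ), ψ ≫ Sigma.desc (leg s) = 0 := fun s => Sigma.hom_ext _ _ fun r => by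
    obtain ⟨p, -, hr⟩ := exists_piece ψ hsupp ∅ {r}
    rw [← Category.assoc, ← rel_incl ψ p ⟨r, hr (Finset.mem_singleton_self r)⟩, Category.assoc, Category.assoc, hleg,
      comp_zero, ← Category.assoc (rel ψ p), cokernel.condition, zero_comp, comp_zero]
  refine ⟨{ desc := fun s => hπ.desc (CokernelCofork.ofπ _ (hψ s)), fac := fun s p => ?_, uniq := fun s m hm => ?_ }⟩
  · refine coequalizer.hom_ext ?_
    show cokernel.π (rel ψ p) ≫ cokernel.desc _ _ _ ≫ _ = cokernel.π (rel ψ p) ≫ _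
    rw [cokernel.π_desc_assoc, Category.assoc]
    exact (congrArg (inclS E p.1.1 ≫ ·) (hπ.fac (CokernelCofork.ofπ _ (hψ s)) .one)).trans (hleg s p)
  · refine (cancel_epi π).1 (Eq.trans ?_ (hπ.fac (CokernelCofork.ofπ _ (hψ s)) .one).symm)
    refine Sigma.hom_ext _ _ fun g => ?_
    show Sigma.ι E g ≫ π ≫ m = Sigma.ι E g ≫ Sigma.desc (leg s)
    rw [Sigma.ι_desc]
    show _ = _ ≫ cokernel.π (rel ψ (pg g)) ≫ s.ι.app (pg g)
    rw [← hm (pg g)]
    show _ = _ ≫ cokernel.π (rel ψ (pg g)) ≫ cokernel.desc _ _ _ ≫ m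
    rw [cokernel.π_desc_assoc, inclS, Category.assoc, Sigma.ι_desc_assoc]

end General

section Mod

open ModSite
open Groth.Agent.ModFlat (rs freeOnEquiv freeOnEquiv_comp)

variable {C : Type v} [SmallCategory C] {J : GrothendieckTopology C} (O : Sheaf J CommRingCat.{v}) {B : Set C}

theorem exists_epi_free
    (hB₁ : ∀ X : C, ∃ (κ : Type v) (Y : κ → C) (g : ∀ k, Y k ⟶ X), Sieve.ofArrows Y g ∈ J X ∧ ∀ k, Y k ∈ B)
    (X : Mod O) : Epi (Sigma.desc fun i : (Σ U : B, sect X (U : C)) => (freeOnEquiv O (i.1 : C) X).symm i.2) := by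
  refine Groth.Agent.ModAlg.epi_of_locally (R := ringSh O) _ fun T x => ?_
  obtain ⟨κ, Ys, gs, hg, hY⟩ := hB₁ T.unop
  refine ⟨_, hg, fun W f hf => ?_⟩
  obtain ⟨_, a, b, ⟨k⟩, rfl⟩ := hf
  let i : (Σ U : B, sect X (U : C)) := ⟨⟨Ys k, hY k⟩, rs X (gs k) x⟩
  let one : sect (freeOn O (Ys k)) (Ys k) := freeOnEquiv O (Ys k) _ (𝟙 _)
  have h1 : Groth.Agent.PullFlat.appS ((freeOnEquiv O (Ys k) X).symm (rs X (gs k) x)) (Ys k) one = rs X (gs k) x := by
    refine (freeOnEquiv_comp O (Ys k) (𝟙 _) _).symm.trans ?_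
    rw [Category.id_comp, Equiv.apply_symm_apply]
  refine ⟨rs _ a (Groth.Agent.PullFlat.appS (Sigma.ι (fun i : (Σ U : B, sect X (U : C)) => freeOn O (i.1 : C)) i) (Ys k) one), ?_⟩
  show Groth.Agent.PullFlat.appS _ W _ = rs X (a ≫ gs k) x
  rw [Groth.Agent.PullFlat.appS_res, ← Groth.Agent.PullFlat.appS_comp, Sigma.ι_desc, h1,
    ← Groth.Agent.ModFlat.map_val_comp]

theorem exists_filtered_finPres
    (hB₁ : ∀ X : C, ∃ (κ : Type v) (Y : κ → C) (g : ∀ k, Y k ⟶ X), Sieve.ofArrows Y g ∈ J X ∧ ∀ k, Y k ∈ B)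
    (hB₂ : ∀ U ∈ B, CohCx.IsQcObject ((presheafToSheaf J (Type v)).obj (yoneda.obj U))) (F : Mod O) :
    ∃ (Λ : Type v) (_ : SmallCategory Λ) (_ : IsFiltered Λ) (D : Λ ⥤ Mod O)
      (ι : D ⟶ (Functor.const Λ).obj F),
      (∀ l, (∃ (m' n' : ℕ) (V' : Fin m' → C) (U' : Fin n' → C)
        (ψ : (∐ fun j => freeOn O (V' j)) ⟶ ∐ fun i => freeOn O (U' i)),
        (∀ j, V' j ∈ B) ∧ (∀ i, U' i ∈ B) ∧ Nonempty (D.obj l ≅ cokernel ψ))) ∧
      Nonempty (IsColimit (Cocone.mk F ι)) := by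
  let Gi := Σ U : B, sect F (U : C)
  let E : Gi → Mod O := fun i => freeOn O (i.1 : C)
  let π : ∐ E ⟶ F := Sigma.desc fun i => (freeOnEquiv O (i.1 : C) F).symm i.2
  haveI : Epi π := exists_epi_free O hB₁ F
  let Ri := Σ U : B, sect (kernel π : Mod O) (U : C)
  let E' : Ri → Mod O := fun i => freeOn O (i.1 : C)
  let q : ∐ E' ⟶ kernel π := Sigma.desc fun i => (freeOnEquiv O (i.1 : C) (kernel π)).symm i.2
  haveI : Epi q := exists_epi_free O hB₁ (kernel π)
  let ψ : ∐ E' ⟶ ∐ E := q ≫ kernel.ι π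
  have w : ψ ≫ π = 0 := by simp [ψ]
  have hex : IsColimit (CokernelCofork.ofπ π w) :=
    isCokernelEpiComp ((ShortComplex.exact_of_f_is_kernel (ShortComplex.mk (kernel.ι π) π (kernel.condition π))
      (kernelIsKernel π)).gIsCokernel) q rfl
  have hsupp : ∀ r, ∃ S : Finset Gi, ∀ T : Finset Gi, S ⊆ T →
      Sigma.ι E' r ≫ ψ ≫ projS E T ≫ inclS E T = Sigma.ι E' r ≫ ψ := fun r => by
    haveI := preservesColimitsOfShape_coyoneda O (hB₂ _ r.1.2) Gi
    obtain ⟨S, hS⟩ := exists_finite_support E (P := E' r) (Sigma.ι E' r ≫ ψ)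
    exact ⟨S, fun T hT => by rw [← Category.assoc]; exact hS T hT⟩
  refine ⟨Piece ψ, inferInstance, isFiltered_pieces ψ hsupp, pieces ψ, piecesι ψ π w, fun p => ?_,
    nonempty_isColimit_pieces ψ π w hsupp hex⟩
  let eS := p.1.1.equivFin
  let eT := p.1.2.equivFin
  let eU : (∐ fun i => E (eS.symm i)) ≅ ∐ fun g : p.1.1 => E g := Sigma.reindex eS.symm fun g => E g
  let eV : (∐ fun i => E' (eT.symm i)) ≅ ∐ fun g : p.1.2 => E' g := Sigma.reindex eT.symm fun g => E' g
  exact ⟨p.1.2.card, p.1.1.card, fun j => ((eT.symm j : Ri).1 : C), fun i => ((eS.symm i : Gi).1 : C),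
    eV.hom ≫ rel ψ p ≫ eU.inv, fun j => ((eT.symm j : Ri).1).2, fun i => ((eS.symm i : Gi).1).2,
    ⟨cokernel.mapIso _ _ eV.symm eU.symm (by simp)⟩⟩

end Mod

end Groth.Agent.FreeCompact
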