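import Groth.Agent.SiteCoh.Nerve
import Groth.Agent.SiteCoh.Totally

/-!
# The image of a Čech nerve under a functor preserving fibre products

As `Groth.Agent.SiteCoh.NerveMap`, assuming only that fibre products are preserved.
-/

set_option autoImplicit false

universe u

open CategoryTheory CategoryTheory.Limits Opposite Simplicial AlgebraicTopology

namespace Groth.Agent.FreeCompact.NerveMapPB

open Groth.Agent.SiteCoh

variable {C : Type u} [SmallCategory C] {J : GrothendieckTopology C}
  {D : Type u} [SmallCategory D] {K : GrothendieckTopology D}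
  (G : Sheaf K (Type u) ⥤ Sheaf J (Type u)) [PreservesLimitsOfShape WalkingCospan G]
  {L' L : Sheaf K (Type u)} (f : L' ⟶ L)

/-- The presheaves of sets underlying the image of the augmented Čech nerve. -/
noncomputable abbrev nerveMap : SimplicialObject.Augmented (Cᵒᵖ ⥤ Type u) :=
  ((SimplicialObject.Augmented.whiskering _ _).obj (G ⋙ sheafToPresheaf J (Type u))).obj
    (Arrow.mk f).augmentedCechNerve

/-- The fibre power. -/
noncomputable abbrev wp (n : ℕ) : Sheaf K (Type u) := widePullback L (fun _ : Fin (n + 1) => L') fun _ => f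

theorem π₀_iso :
    WidePullback.π (fun _ : Fin 1 => f) 0 ≫ WidePullback.lift f (fun _ : Fin 1 => 𝟙 L') (fun _ => Category.id_comp f) =
      𝟙 (wp f 0) := by
  refine WidePullback.hom_ext _ _ _ (fun j => ?_) ?_
  · rw [Category.assoc, WidePullback.lift_π, Category.id_comp, Category.comp_id,
      show j = (0 : Fin 1) from Subsingleton.elim (α := Fin 1) _ _]
  · rw [Category.assoc, WidePullback.lift_base, Category.id_comp]
    exact WidePullback.π_arrow (fun _ : Fin 1 => f) 0

/-- A fibre power as a fibre product. -/
noncomputable def split (n : ℕ) : wp f (n + 1) ⟶ pullback (WidePullback.base fun _ : Fin (n + 1) => f) f :=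
  pullback.lift
    (WidePullback.lift (WidePullback.base fun _ : Fin (n + 2) => f)
      (fun j : Fin (n + 1) => WidePullback.π (fun _ : Fin (n + 2) => f) j.castSucc)
      fun j => WidePullback.π_arrow (fun _ : Fin (n + 2) => f) j.castSucc)
    (WidePullback.π (fun _ : Fin (n + 2) => f) (Fin.last _))
    (by rw [WidePullback.lift_base]; exact (WidePullback.π_arrow (fun _ : Fin (n + 2) => f) _).symm)

/-- The inverse of `split`. -/
noncomputable def glue (n : ℕ) : pullback (WidePullback.base fun _ : Fin (n + 1) => f) f ⟶ wp f (n + 1) :=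
  WidePullback.lift (pullback.fst _ _ ≫ WidePullback.base fun _ : Fin (n + 1) => f)
    (Fin.lastCases (pullback.snd _ _) fun j => pullback.fst _ _ ≫ WidePullback.π (fun _ : Fin (n + 1) => f) j)
    (fun j => by
      induction j using Fin.lastCases with
      | last => rw [Fin.lastCases_last]; exact pullback.condition.symm
      | cast j => rw [Fin.lastCases_castSucc, Category.assoc, WidePullback.π_arrow])

theorem glue_last (n : ℕ) :
    glue f n ≫ WidePullback.π (fun _ : Fin (n + 2) => f) (Fin.last _) = pullback.snd _ _ := by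
  rw [glue, WidePullback.lift_π, Fin.lastCases_last]

theorem glue_cast (n : ℕ) (j : Fin (n + 1)) :
    glue f n ≫ WidePullback.π (fun _ : Fin (n + 2) => f) j.castSucc =
      pullback.fst _ _ ≫ WidePullback.π (fun _ : Fin (n + 1) => f) j := by
  rw [glue, WidePullback.lift_π, Fin.lastCases_castSucc]

theorem glue_base (n : ℕ) :
    glue f n ≫ WidePullback.base (fun _ : Fin (n + 2) => f) =
      pullback.fst _ _ ≫ WidePullback.base fun _ : Fin (n + 1) => f := by
  rw [glue, WidePullback.lift_base]

theorem split_glue (n : ℕ) : split f n ≫ glue f n = 𝟙 _ := by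
  refine WidePullback.hom_ext _ _ _ (fun j => ?_) ?_
  · induction j using Fin.lastCases with
    | last => rw [Category.assoc, glue_last, split, pullback.lift_snd, Category.id_comp]
    | cast j => rw [Category.assoc, glue_cast, split, pullback.lift_fst_assoc, WidePullback.lift_π, Category.id_comp]
  · rw [Category.assoc, glue_base, split, pullback.lift_fst_assoc, WidePullback.lift_base, Category.id_comp]

theorem hom_ext (n : ℕ) {T : Sheaf J (Type u)}
    {a b : T ⟶ G.obj (widePullback L (fun _ : Fin (n + 1) => L') fun _ => f)}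
    (h : ∀ j, a ≫ G.map (WidePullback.π (fun _ : Fin (n + 1) => f) j) =
      b ≫ G.map (WidePullback.π (fun _ : Fin (n + 1) => f) j))
    (hb : a ≫ G.map (WidePullback.base fun _ : Fin (n + 1) => f) =
      b ≫ G.map (WidePullback.base fun _ : Fin (n + 1) => f)) : a = b := by
  induction n generalizing T with
  | zero =>
    have e : G.map (WidePullback.π (fun _ : Fin 1 => f) 0) ≫ G.map _ = 𝟙 _ :=
      (G.map_comp _ _).symm.trans ((congrArg G.map (π₀_iso f)).trans (G.map_id _))
    rw [← Category.comp_id a, ← Category.comp_id b, ← e, ← Category.assoc, h 0, Category.assoc]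
  | succ n ih =>
    suffices e : a ≫ G.map (split f n) = b ≫ G.map (split f n) by
      have e' := congrArg (· ≫ G.map (glue f n)) e
      simp only [Category.assoc, ← G.map_comp, split_glue, G.map_id, Category.comp_id] at e'
      exact e'
    refine ((IsPullback.of_hasPullback (WidePullback.base fun _ : Fin (n + 1) => f) f).map G).hom_ext
      (ih (fun j => ?_) ?_) ?_
    · simp only [Category.assoc, ← G.map_comp]
      rw [split, pullback.lift_fst_assoc, WidePullback.lift_π]
      exact h j.castSucc
    · simp only [Category.assoc, ← G.map_comp]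
      rw [split, pullback.lift_fst_assoc, WidePullback.lift_base]
      exact hb
    · simp only [Category.assoc, ← G.map_comp]
      rw [split, pullback.lift_snd]
      exact h (Fin.last _)

theorem exists_lift (n : ℕ) {T : Sheaf J (Type u)} (b : T ⟶ G.obj L) (p : Fin (n + 1) → (T ⟶ G.obj L'))
    (w : ∀ j, p j ≫ G.map f = b) :
    ∃ l : T ⟶ G.obj (widePullback L (fun _ : Fin (n + 1) => L') fun _ => f),
      (∀ j, l ≫ G.map (WidePullback.π (fun _ : Fin (n + 1) => f) j) = p j) ∧
        l ≫ G.map (WidePullback.base fun _ : Fin (n + 1) => f) = b := by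
  induction n with
  | zero =>
    refine ⟨p 0 ≫ G.map (WidePullback.lift f (fun _ : Fin 1 => 𝟙 L') (fun _ => Category.id_comp f)),
      fun j => ?_, ?_⟩
    · rw [show j = (0 : Fin 1) from Subsingleton.elim (α := Fin 1) _ _, Category.assoc, ← G.map_comp, WidePullback.lift_π,
        G.map_id, Category.comp_id]
    · rw [Category.assoc, ← G.map_comp, WidePullback.lift_base, w 0]
  | succ n ih =>
    obtain ⟨l, hl, hlb⟩ := ih (fun j => p j.castSucc) fun j => w j.castSucc
    let hpb := (IsPullback.of_hasPullback (WidePullback.base fun _ : Fin (n + 1) => f) f).map G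
    let m := hpb.lift l (p (Fin.last _)) (hlb.trans (w _).symm)
    refine ⟨m ≫ G.map (glue f n), fun j => ?_, ?_⟩
    · induction j using Fin.lastCases with
      | last => rw [Category.assoc, ← G.map_comp, glue_last, IsPullback.lift_snd]
      | cast j => rw [Category.assoc, ← G.map_comp, glue_cast, G.map_comp, IsPullback.lift_fst_assoc, hl]
    · rw [Category.assoc, ← G.map_comp, glue_base, G.map_comp, IsPullback.lift_fst_assoc, hlb]

theorem isCechLike_nerveMap (V : Cᵒᵖ) : CechLike.IsCechLike (CechLike.at' (nerveMap G f) V) := by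
  obtain ⟨V⟩ := V
  let P : ℕ → Sheaf J (Type u) := fun n => G.obj ((Arrow.mk f).cechNerve.obj (op ⦋n⦌))
  let v : ∀ (n : ℕ) (_ : Fin (n + 1)), P n ⟶ P 0 :=
    fun n j => G.map ((Arrow.mk f).cechNerve.map (SimplexCategory.const ⦋0⦌ ⦋n⦌ j).op)
  have hvπ : ∀ (n : ℕ) (j : Fin (n + 1)),
      v n j ≫ G.map (WidePullback.π (fun _ : Fin 1 => f) 0) =
        G.map (WidePullback.π (fun _ : Fin (n + 1) => f) j) := fun n j =>
    (G.map_comp _ _).symm.trans (congrArg G.map (WidePullback.lift_π ..))
  have hvb : ∀ (n : ℕ) (j : Fin (n + 1)),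
      v n j ≫ G.map (WidePullback.base (fun _ : Fin 1 => f)) =
        G.map (WidePullback.base (fun _ : Fin (n + 1) => f)) := fun n j =>
    (G.map_comp _ _).symm.trans (congrArg G.map (WidePullback.lift_base ..))
  refine ⟨fun n x y hxy => ?_, fun n w hw => ?_⟩
  · obtain ⟨a, rfl⟩ := (Nerve.secEquiv V (P n)).surjective x
    obtain ⟨b, rfl⟩ := (Nerve.secEquiv V (P n)).surjective y
    have hab : ∀ j, a ≫ v n j = b ≫ v n j := fun j => (Nerve.secEquiv V (P 0)).injective (by
      rw [Nerve.secEquiv_comp, Nerve.secEquiv_comp]
      exact hxy j)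
    refine congrArg _ (hom_ext G f n (fun j => ?_) ?_)
    · have := congrArg (· ≫ G.map (WidePullback.π (fun _ : Fin 1 => f) 0)) (hab j)
      simp only [Category.assoc] at this
      erw [hvπ n j] at this
      exact this
    · have := congrArg (· ≫ G.map (WidePullback.base (fun _ : Fin 1 => f))) (hab 0)
      simp only [Category.assoc] at this
      erw [hvb n 0] at this
      exact this
  · choose a ha using fun j => (Nerve.secEquiv V (P 0)).surjective (w j)
    have hb : ∀ j, a j ≫ G.map (WidePullback.base (fun _ : Fin 1 => f)) =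
        a 0 ≫ G.map (WidePullback.base (fun _ : Fin 1 => f)) :=
      fun j => (Nerve.secEquiv V (G.obj L)).injective (by
      erw [Nerve.secEquiv_comp (a j) (G.map (WidePullback.base (fun _ : Fin 1 => f))),
        Nerve.secEquiv_comp (a 0) (G.map (WidePullback.base (fun _ : Fin 1 => f))), ha j, ha 0]
      exact hw j)
    obtain ⟨l, hlπ, hlb⟩ := exists_lift G f n (a 0 ≫ G.map (WidePullback.base (fun _ : Fin 1 => f)))
      (fun j => a j ≫ G.map (WidePullback.π (fun _ : Fin 1 => f) 0))
      (fun j => by
        rw [Category.assoc, ← G.map_comp]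
        refine (congrArg (a j ≫ G.map ·) ?_).trans (hb j)
        exact WidePullback.π_arrow (fun _ : Fin 1 => f) 0)
    refine ⟨Nerve.secEquiv V (P n) l, fun j => ?_⟩
    have hl : l ≫ v n j = a j := by
      refine hom_ext G f 0 (fun i => ?_) ?_
      · rw [show i = (0 : Fin 1) from Subsingleton.elim (α := Fin 1) _ _, Category.assoc]
        erw [hvπ n j]
        exact hlπ j
      · rw [Category.assoc]
        erw [hvb n j]
        exact hlb.trans (hb j).symm
    refine Eq.trans ?_ ((congrArg _ hl).trans (ha j))
    exact (Nerve.secEquiv_comp l (v n j)).symm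

theorem isLocallySurjective_nerveMap_hom [Epi (G.map f)] :
    Presheaf.IsLocallySurjective J ((nerveMap G f).hom.app (op ⦋0⦌)) := by
  let d : L' ⟶ (Arrow.mk f).cechNerve.obj (op ⦋0⦌) :=
    WidePullback.lift f (fun _ : Fin 1 => 𝟙 L') (fun _ => Category.id_comp f)
  have hd : (G.map d).hom ≫ (nerveMap G f).hom.app (op ⦋0⦌) = (G.map f).hom := by
    have h : d ≫ WidePullback.base (fun _ : Fin 1 => f) = f := WidePullback.lift_base ..
    exact (congrArg (fun φ => (G.map d).hom ≫ φ) (by simp [nerveMap,
      SimplicialObject.Augmented.whiskering, SimplicialObject.Augmented.whiskeringObj]; rfl)).trans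
      (congrArg (fun φ => φ.hom) ((G.map_comp _ _).symm.trans (congrArg G.map h)))
  have : Sheaf.IsLocallySurjective (G.map f) :=
    (Sheaf.isLocallySurjective_iff_epi' _ (G.map f)).2 inferInstance
  have hf : Presheaf.IsLocallySurjective J (G.map f).hom := this
  have h2 : Presheaf.IsLocallySurjective J ((G.map d).hom ≫ (nerveMap G f).hom.app (op ⦋0⦌)) := by
    rw [hd]
    exact hf
  exact Presheaf.isLocallySurjective_of_isLocallySurjective J (G.map d).hom _

/-- The free abelian sheaves on the image of a Čech nerve form a resolution. -/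
theorem quasiIso_free_nerveMap [Epi (G.map f)] :
    QuasiIso (AlternatingFaceMapComplex.ε.app
      (((SimplicialObject.Augmented.whiskering _ _).obj (Free.freePre J)).obj (nerveMap G f))) :=
  CechLike.quasiIso_free_ε J (nerveMap G f) (isCechLike_nerveMap G f)
    (isLocallySurjective_nerveMap_hom G f)

section Push

variable {C : Type u} [SmallCategory C] {J : GrothendieckTopology C}
  {D : Type u} [SmallCategory D] (K : GrothendieckTopology D) (u : D ⥤ C) [u.IsContinuous K J]
  [PreservesLimitsOfShape WalkingCospan (u.sheafPullback (Type u) K J)]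

/-- Direct images of totally acyclic sheaves along functors whose pullback preserves fibre products. -/
theorem isTotallyAcyclic_push (F : Sheaf J AddCommGrpCat.{u}) (hF : CohCx.IsTotallyAcyclic F) :
    CohCx.IsTotallyAcyclic ((CohSite.push J K u).obj F) := by
  refine Totally.isTotallyAcyclic_of_nerve _ fun L' L f _ p => ?_
  let G := u.sheafPullback (Type u) K J
  have : Epi (G.map f) := by
    have : G.IsLeftAdjoint := (u.sheafAdjunctionContinuous (Type u) K J).isLeftAdjoint
    infer_instance
  have := quasiIso_free_nerveMap G f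
  let X := ((SimplicialObject.Augmented.whiskering _ _).obj (Free.freePre J)).obj (nerveMap G f)
  obtain ⟨e⟩ := HomRes.nonempty_homology_addEquiv_ext (AlternatingFaceMapComplex.ε.app X) (p + 1) F
    (fun m k => hF (G.obj ((Arrow.mk f).cechNerve.obj (op ⦋m⦌))) k)
  have := @Equiv.subsingleton _ _ e.toEquiv (hF (G.obj L) p)
  exact (@AddCommGrpCat.isZero_of_subsingleton _ this).of_iso
    ((HomologicalComplex.homologyFunctor _ _ (p + 1)).mapIso
      ((alternatingCofaceMapComplex _).mapIso
          (Functor.isoWhiskerLeft (Arrow.mk f).cechNerve.rightOp (Totally.HK0Iso K u F)).symm ≪≫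
        Cech.cofaceIso X.left F))

end Push

end Groth.Agent.FreeCompact.NerveMapPB
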